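import Groth.Agent.Lib.Helper5.ArSing.NodeAut

set_option autoImplicit false
universe u

namespace H5ArSing

open MvPowerSeries

variable (k : Type u) [Field k] (r : ℕ)

lemma hasSubst_cusp :
    HasSubst (![(PowerSeries.X : PowerSeries k) ^ 2, PowerSeries.X ^ (r + 1)] :
      Fin 2 → MvPowerSeries Unit k) := by
  apply hasSubst_of_constantCoeff_zero
  intro s
  fin_cases s
  · change PowerSeries.constantCoeff ((PowerSeries.X : PowerSeries k) ^ 2) = 0
    simp
  · change PowerSeries.constantCoeff ((PowerSeries.X : PowerSeries k) ^ (r + 1)) = 0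
    simp

/-- the normalisation map `x ↦ t², y ↦ t^(r+1)` -/
noncomputable def nu : ArSing.ring k r →ₐ[k] PowerSeries k :=
  Ideal.Quotient.liftₐ _ (substAlgHom (R := k) (hasSubst_cusp k r)) (by
    intro a ha
    rw [Ideal.mem_span_singleton] at ha
    obtain ⟨d, rfl⟩ := ha
    rw [map_mul]
    have : substAlgHom (R := k) (hasSubst_cusp k r) (ArSing.eqn k r) = 0 := by
      simp only [ArSing.eqn, map_sub, map_pow, substAlgHom_X]
      simp only [Matrix.cons_val_zero, Matrix.cons_val_one]
      ring
    rw [this, zero_mul])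

lemma nu_x : nu k r (ArSing.x k r) = PowerSeries.X ^ 2 := by
  change substAlgHom (R := k) (hasSubst_cusp k r) (X 0) = _
  rw [substAlgHom_X]; rfl

lemma nu_y : nu k r (ArSing.y k r) = PowerSeries.X ^ (r + 1) := by
  change substAlgHom (R := k) (hasSubst_cusp k r) (X 1) = _
  rw [substAlgHom_X]; rfl

lemma nu_xMap (a : PowerSeries k) : nu k r (ArSing.xMap k r a) = E2 a := by
  have : (nu k r).comp (ArSing.xMap k r) = E2 := by
    apply ext_P (Ideal.span {(PowerSeries.X : PowerSeries k)}) (sep_P k)
    · rw [AlgHom.comp_apply, xMap_X, nu_x]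
      exact Ideal.mem_span_singleton.mpr ⟨PowerSeries.X, by ring⟩
    · rw [AlgHom.comp_apply, xMap_X, nu_x]
      simp [E2]
  exact DFunLike.congr_fun this a

lemma nu_apply (a b : PowerSeries k) :
    nu k r (ArSing.xMap k r a + ArSing.xMap k r b * ArSing.y k r) =
      E2 a + E2 b * PowerSeries.X ^ (r + 1) := by
  rw [map_add, map_mul, nu_xMap, nu_xMap, nu_y]

end H5ArSing
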