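import Mathlib
import Groth.Agent.Lib.Helper5.ArSing.Cusp.Nu

set_option autoImplicit false
universe u

namespace H5ArSing

open PowerSeries

variable {k : Type u} [Field k]

/-- `t ↦ -t` -/
noncomputable abbrev ng : PowerSeries k →ₐ[k] PowerSeries k := resc (-1 : k)

lemma ng_apply (f : PowerSeries k) : ng f = rescale (-1 : k) f := resc_apply _ _

lemma ng_X : ng (X : PowerSeries k) = -X := by
  rw [ng_apply, rescale_X]; simp

lemma ng_ng (f : PowerSeries k) : ng (ng f) = f := by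
  rw [ng_apply, ng_apply, rescale_rescale']
  simp

lemma ng_E2 (a : PowerSeries k) : ng (E2 a) = E2 a := by rw [ng_apply, rescale_neg_E2]

lemma E2_X_pow (m : ℕ) : E2 ((X : PowerSeries k) ^ m) = X ^ (2 * m) := by
  rw [map_pow, pow_mul]
  congr 1
  simp [E2]

/-- the even-`r` normal form of `ν` -/
lemma nu_apply' (m : ℕ) (a b : PowerSeries k) :
    nu k (2 * m) (ArSing.xMap k (2 * m) a + ArSing.xMap k (2 * m) b * ArSing.y k (2 * m)) =
      E2 a + X * E2 (X ^ m * b) := by
  rw [nu_apply, map_mul, E2_X_pow]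
  ring

lemma nu_injective (m : ℕ) : Function.Injective (nu k (2 * m)) := by
  rw [injective_iff_map_eq_zero]
  intro z hz
  obtain ⟨a, b, rfl⟩ := struct k (2 * m) z
  rw [nu_apply'] at hz
  obtain ⟨ha, hb⟩ := parity_unique hz
  have hb' : b = 0 := by
    rcases mul_eq_zero.mp hb with h | h
    · exact absurd h (pow_ne_zero _ X_ne_zero)
    · exact h
  rw [ha, hb', map_zero, zero_mul, add_zero]

/-- membership in the image of the normalisation -/
def InS (r : ℕ) (f : PowerSeries k) : Prop := X ^ (r + 1) ∣ f - ng f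

/-- odd-up-to-order-`r` series -/
def InW (r : ℕ) (f : PowerSeries k) : Prop := X ^ r ∣ f + ng f

lemma sub_ng (f : PowerSeries k) : f - ng f = X * ((2 : PowerSeries k) * E2 (od f)) := by
  have := rescale_neg_sub f
  rw [← ng_apply] at this
  linear_combination (-1 : PowerSeries k) * this

lemma two_isUnit (h2 : (2 : k) ≠ 0) : IsUnit (2 : PowerSeries k) := by
  rw [PowerSeries.isUnit_iff_constantCoeff]
  have : constantCoeff (2 : PowerSeries k) = 2 := by
    rw [← map_ofNat (C (R := k)) 2, constantCoeff_C]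
  rw [this]
  exact isUnit_iff_ne_zero.mpr h2

lemma X_pow_dvd_of_E2 (m : ℕ) (b : PowerSeries k) (h : X ^ (2 * m) ∣ E2 b) : X ^ m ∣ b := by
  rw [PowerSeries.X_pow_dvd_iff] at h ⊢
  intro i hi
  rw [← coeff_E2_even]
  exact h _ (by omega)

lemma inS_nu (m : ℕ) (z : ArSing.ring k (2 * m)) : InS (2 * m) (nu k (2 * m) z) := by
  obtain ⟨a, b, rfl⟩ := struct k (2 * m) z
  rw [nu_apply', InS, map_add, ng_E2, map_mul ng, ng_E2, ng_X, map_mul, E2_X_pow]
  refine ⟨2 * E2 b, ?_⟩
  ring

lemma exists_of_inS (h2 : (2 : k) ≠ 0) (m : ℕ) (f : PowerSeries k) (hf : InS (2 * m) f) :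
    ∃ z : ArSing.ring k (2 * m), nu k (2 * m) z = f := by
  rw [InS, sub_ng] at hf
  have h1 : X ^ (2 * m) ∣ E2 (od f) := by
    obtain ⟨c, hc⟩ := hf
    obtain ⟨u, hu⟩ := (two_isUnit h2).exists_right_inv
    have h3 : X * ((2 : PowerSeries k) * E2 (od f)) = X * (X ^ (2 * m) * c) := by
      rw [hc]; ring
    have h4 := mul_left_cancel₀ X_ne_zero h3
    refine ⟨u * c, ?_⟩
    linear_combination (E2 (od f)) * (-hu) + u * h4
  obtain ⟨b, hb⟩ := X_pow_dvd_of_E2 m _ h1
  refine ⟨ArSing.xMap k (2 * m) (ev f) + ArSing.xMap k (2 * m) b * ArSing.y k (2 * m), ?_⟩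
  rw [nu_apply', ← hb]
  exact (parity_decomp f).symm

end H5ArSing
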