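import Mathlib
import Groth.Agent.Lib.Helper5.ArSing.Cusp.Range

set_option autoImplicit false
universe u

namespace H5ArSing

open PowerSeries

variable {k : Type u} [Field k] {r : ℕ}

lemma C_eq_algebraMap (c : k) : (C c : PowerSeries k) = algebraMap k (PowerSeries k) c := rfl

lemma algHom_C (ρ : PowerSeries k →ₐ[k] PowerSeries k) (c : k) : ρ (C c) = C c := by
  rw [C_eq_algebraMap, ρ.commutes]

lemma inS_C (c : k) : InS r (C c : PowerSeries k) := by
  rw [InS, algHom_C, sub_self]; exact dvd_zero _

lemma inS_add {f g : PowerSeries k} (hf : InS r f) (hg : InS r g) : InS r (f + g) := by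
  rw [InS, map_add] at *
  have : f + g - (ng f + ng g) = (f - ng f) + (g - ng g) := by ring
  rw [this]; exact dvd_add hf hg

lemma inS_mul {f g : PowerSeries k} (hf : InS r f) (hg : InS r g) : InS r (f * g) := by
  rw [InS, map_mul] at *
  have : f * g - ng f * ng g = f * (g - ng g) + (f - ng f) * ng g := by ring
  rw [this]
  exact dvd_add (Dvd.dvd.mul_left hg _) (Dvd.dvd.mul_right hf _)

lemma inS_pow {f : PowerSeries k} (hf : InS r f) (n : ℕ) : InS r (f ^ n) := by
  induction n with
  | zero => rw [pow_zero, ← map_one (C (R := k))]; exact inS_C 1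
  | succ n ih => rw [pow_succ]; exact inS_mul ih hf

lemma X_dvd_ng {f : PowerSeries k} {n : ℕ} (h : X ^ n ∣ f) : X ^ n ∣ ng f := by
  obtain ⟨c, rfl⟩ := h
  rw [map_mul, map_pow, ng_X, neg_pow]
  exact ⟨(-1) ^ n * ng c, by ring⟩

lemma inS_of_dvd {f : PowerSeries k} (h : X ^ (r + 1) ∣ f) : InS r f :=
  dvd_sub h (X_dvd_ng h)

/-- an algebra endomorphism of `k⟦t⟧` sending `t` into `S ∩ (t)` has image in `S` -/
theorem inS_algHom (ρ : PowerSeries k →ₐ[k] PowerSeries k) (hρ : InS r (ρ X))
    (hρ0 : X ∣ ρ X) (a : PowerSeries k) : InS r (ρ a) := by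
  have hpoly : ∀ p : Polynomial k, InS r (ρ (p : PowerSeries k)) := by
    intro p
    induction p using Polynomial.induction_on' with
    | add p q hp hq => rw [Polynomial.coe_add, map_add]; exact inS_add hp hq
    | monomial n c =>
      rw [Polynomial.coe_monomial, monomial_eq_C_mul_X_pow, map_mul, algHom_C, map_pow]
      exact inS_mul (inS_C c) (inS_pow hρ n)
  rw [eq_X_pow_mul_shift_add_trunc (r + 1) a, map_add, map_mul, map_pow]
  refine inS_add (inS_of_dvd ?_) (hpoly _)
  exact Dvd.dvd.mul_right (pow_dvd_pow_of_dvd hρ0 _) _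

lemma inS_of_inW {g h : PowerSeries k} (hg : InW r g) (hh : InW r h) (hg0 : X ∣ g) (hh0 : X ∣ h) :
    InS r (g * h) := by
  rw [InS, map_mul]
  rw [InW] at hg hh
  have : g * h - ng g * ng h = g * (h + ng h) - (g + ng g) * ng h := by ring
  rw [this, pow_succ]
  apply dvd_sub
  · rw [mul_comm (X ^ r) X]
    exact mul_dvd_mul hg0 hh
  · have : X ∣ ng h := by simpa using X_dvd_ng (n := 1) (by simpa using hh0)
    exact mul_dvd_mul hg this

lemma inW_add {f g : PowerSeries k} (hf : InW r f) (hg : InW r g) : InW r (f + g) := by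
  rw [InW, map_add] at *
  have : f + g + (ng f + ng g) = (f + ng f) + (g + ng g) := by ring
  rw [this]; exact dvd_add hf hg

lemma inW_C_mul (c : k) {f : PowerSeries k} (hf : InW r f) : InW r (C c * f) := by
  rw [InW, map_mul, algHom_C] at *
  have : C c * f + C c * ng f = C c * (f + ng f) := by ring
  rw [this]; exact Dvd.dvd.mul_left hf _

lemma inW_X : InW r (X : PowerSeries k) := by
  rw [InW, ng_X, add_neg_cancel]; exact dvd_zero _

end H5ArSing
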