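import Mathlib
import Groth.Agent.Lib.Helper5.ArSing.Cusp.Closure

set_option autoImplicit false
universe u

namespace H5ArSing

open PowerSeries

variable {k : Type u} [Field k]

lemma inS_algHom_nu (m : ℕ) (Θ : PowerSeries k →ₐ[k] PowerSeries k) (hW : InW (2 * m) (Θ X))
    (h0 : X ∣ Θ X) (z : ArSing.ring k (2 * m)) : InS (2 * m) (Θ (nu k (2 * m) z)) := by
  obtain ⟨a, b, rfl⟩ := struct k (2 * m) z
  rw [nu_apply, map_add, map_mul, map_pow]
  have hρ : InS (2 * m) ((Θ.comp E2) X) := by
    rw [AlgHom.comp_apply]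
    have : E2 (X : PowerSeries k) = X * X := by simp [E2, pow_two]
    rw [this, map_mul]
    exact inS_of_inW hW hW h0 h0
  have hρ0 : X ∣ (Θ.comp E2) X := by
    rw [AlgHom.comp_apply]
    have : E2 (X : PowerSeries k) = X * X := by simp [E2, pow_two]
    rw [this, map_mul]
    exact Dvd.dvd.mul_right h0 _
  refine inS_add (inS_algHom (Θ.comp E2) hρ hρ0 a) (inS_of_dvd ?_)
  exact Dvd.dvd.mul_left (pow_dvd_pow_of_dvd h0 _) _

section hom

variable (h2 : (2 : k) ≠ 0) (m : ℕ) (Θ : PowerSeries k →ₐ[k] PowerSeries k)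
  (hW : InW (2 * m) (Θ X)) (h0 : X ∣ Θ X)

/-- the element of `A_r` with prescribed image in the normalisation -/
noncomputable def wFun (z : ArSing.ring k (2 * m)) : ArSing.ring k (2 * m) :=
  (exists_of_inS h2 m _ (inS_algHom_nu m Θ hW h0 z)).choose

lemma nu_wFun (z : ArSing.ring k (2 * m)) :
    nu k (2 * m) (wFun h2 m Θ hW h0 z) = Θ (nu k (2 * m) z) :=
  (exists_of_inS h2 m _ (inS_algHom_nu m Θ hW h0 z)).choose_spec

/-- the endomorphism of `A_r` induced by an endomorphism of the normalisation preserving it -/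
noncomputable def homOfW : ArSing.ring k (2 * m) →ₐ[k] ArSing.ring k (2 * m) :=
  AlgHom.ofLinearMap
    { toFun := wFun h2 m Θ hW h0
      map_add' := fun z w => by
        apply nu_injective m
        rw [map_add, nu_wFun, nu_wFun, nu_wFun, map_add, map_add]
      map_smul' := fun c z => by
        apply nu_injective m
        rw [RingHom.id_apply, map_smul, nu_wFun, nu_wFun, map_smul, map_smul] }
    (by
      apply nu_injective m
      change nu k (2 * m) (wFun h2 m Θ hW h0 1) = _
      rw [nu_wFun, map_one, map_one])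
    (fun z w => by
      apply nu_injective m
      change nu k (2 * m) (wFun h2 m Θ hW h0 (z * w)) =
        nu k (2 * m) (wFun h2 m Θ hW h0 z * wFun h2 m Θ hW h0 w)
      rw [map_mul, nu_wFun, nu_wFun, nu_wFun, map_mul, map_mul])

lemma nu_homOfW (z : ArSing.ring k (2 * m)) :
    nu k (2 * m) (homOfW h2 m Θ hW h0 z) = Θ (nu k (2 * m) z) := nu_wFun h2 m Θ hW h0 z

end hom

end H5ArSing
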