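import Mathlib
import Groth.Agent.Lib.Helper5.ArSing.Cusp.HomOfW

set_option autoImplicit false
universe u

namespace H5ArSing

open MvPowerSeries

variable {k : Type u} [Field k] {r : ℕ}

/-- algebra maps `A_r → k⟦X⟧` send the maximal ideal into `(X)` -/
lemma cc_of_mem_𝔫' (f : ArSing.ring k r →ₐ[k] PowerSeries k) {n : ArSing.ring k r}
    (hn : n ∈ 𝔫 k r) : PowerSeries.constantCoeff (f n) = 0 := by
  by_contra hc
  set c := PowerSeries.constantCoeff (f n) with hcdef
  have hu : IsUnit (n - algebraMap k (ArSing.ring k r) c) := by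
    by_contra hnu
    have h1 : n - algebraMap k (ArSing.ring k r) c ∈ IsLocalRing.maximalIdeal (ArSing.ring k r) :=
      (IsLocalRing.mem_maximalIdeal _).mpr hnu
    rw [← 𝔫_eq_maximalIdeal] at h1
    have h3 : algebraMap k (ArSing.ring k r) c ∈ 𝔫 k r := by
      have := sub_mem hn h1
      simpa using this
    have h4 := 𝔫_le_ker k r h3
    rw [RingHom.mem_ker] at h4
    have h5 : aug k r (algebraMap k (ArSing.ring k r) c) = c := by
      change constantCoeff (algebraMap k (MvPowerSeries (Fin 2) k) c) = c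
      rw [MvPowerSeries.algebraMap_apply]
      simp
    rw [h5] at h4
    exact hc h4
  have hu' := hu.map f
  rw [map_sub, AlgHom.commutes] at hu'
  rw [PowerSeries.isUnit_iff_constantCoeff, map_sub] at hu'
  have : PowerSeries.constantCoeff (algebraMap k (PowerSeries k) c) = c := by
    rw [PowerSeries.algebraMap_apply]; simp
  rw [this, ← hcdef, sub_self] at hu'
  exact not_isUnit_zero hu'

end H5ArSing

namespace H5ArSing

open PowerSeries

variable {k : Type u} [Field k]

section extend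

variable (h2 : (2 : k) ≠ 0) (m : ℕ)
  (σ : ArSing.ring k (2 * m) ≃ₐ[k] ArSing.ring k (2 * m))

lemma y_sq_eq_x_pow (r : ℕ) : ArSing.y k r ^ 2 = ArSing.x k r ^ (r + 1) := by
  rw [pow_two, y_sq, map_pow, xMap_X]

lemma x_ne_zero' : ArSing.x k (2 * m) ≠ 0 := by
  intro h
  have := congrArg (nu k (2 * m)) h
  rw [nu_x, map_zero] at this
  exact pow_ne_zero 2 X_ne_zero this

/-- a root `s` of `ν(σ x)` with `s^(r+1) = ν(σ y)` -/
lemma exists_root : ∃ s : PowerSeries k, s ^ 2 = nu k (2 * m) (σ (ArSing.x k (2 * m))) ∧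
    s ^ (2 * m + 1) = nu k (2 * m) (σ (ArSing.y k (2 * m))) ∧ constantCoeff s = 0 := by
  set X' := nu k (2 * m) (σ (ArSing.x k (2 * m))) with hX'
  set Y' := nu k (2 * m) (σ (ArSing.y k (2 * m))) with hY'
  have hXY : Y' ^ 2 = X' ^ (2 * m + 1) := by
    have h1 := congrArg (fun z => nu k (2 * m) (σ z)) (y_sq_eq_x_pow (k := k) (2 * m))
    simp only [map_pow] at h1
    exact h1
  have hX0 : X' ≠ 0 := by
    intro h
    have h1 := nu_injective m (h.trans (map_zero _).symm)
    have h3 : ArSing.x k (2 * m) = 0 := σ.injective (h1.trans (map_zero σ).symm)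
    exact x_ne_zero' m h3
  have hdvd : X' ^ m ∣ Y' := by
    rw [← IsIntegrallyClosed.pow_dvd_pow_iff (n := 2) two_ne_zero, hXY]
    exact ⟨X', by ring⟩
  obtain ⟨s, hs⟩ := hdvd
  have hs2 : s ^ 2 = X' := by
    have h1 : X' ^ (2 * m) * s ^ 2 = X' ^ (2 * m) * X' := by
      have : X' ^ (2 * m) * s ^ 2 = (X' ^ m * s) ^ 2 := by ring
      rw [this, ← hs, hXY]; ring
    exact mul_left_cancel₀ (pow_ne_zero _ hX0) h1
  refine ⟨s, hs2, ?_, ?_⟩
  · rw [hs, ← hs2]; ring
  · have h1 : constantCoeff X' = 0 :=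
      cc_of_mem_𝔫' ((nu k (2 * m)).comp σ.toAlgHom) (x_mem k (2 * m))
    have h3 : constantCoeff s ^ 2 = 0 := by rw [← map_pow, hs2, h1]
    exact pow_eq_zero_iff (two_ne_zero) |>.mp h3

end extend

end H5ArSing
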