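import Mathlib
import Groth.Agent.Lib.Helper5.ArSing.Cusp.Root

set_option autoImplicit false
universe u

namespace H5ArSing

open PowerSeries

variable {k : Type u} [Field k] {r : ℕ}

lemma constantCoeff_E2 (a : PowerSeries k) : constantCoeff (E2 a) = constantCoeff a := by
  have := coeff_E2_even a 0
  simpa using this

lemma constantCoeff_od (s : PowerSeries k) : constantCoeff (od s) = coeff 1 s := by
  rw [← coeff_zero_eq_constantCoeff_apply, od, coeff_mk]

/-- a series with non-zero linear term whose square lies in `S` is odd up to order `r` -/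
lemma inW_of_sq (h2 : (2 : k) ≠ 0) {s : PowerSeries k} (hs : InS r (s * s)) (h1 : coeff 1 s ≠ 0) :
    InW r s := by
  rw [InS, map_mul] at hs
  have e : s * s - ng s * ng s = X * ((2 * E2 (od s)) * (s + ng s)) := by
    have := sub_ng s
    linear_combination (s + ng s) * this
  rw [e, pow_succ, mul_comm (X ^ r) X] at hs
  have h3 := (mul_dvd_mul_iff_left X_ne_zero).mp hs
  have hu : IsUnit ((2 : PowerSeries k) * E2 (od s)) := by
    apply (two_isUnit h2).mul
    rw [PowerSeries.isUnit_iff_constantCoeff, constantCoeff_E2, constantCoeff_od]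
    exact isUnit_iff_ne_zero.mpr h1
  exact (hu.dvd_mul_left).mp h3

lemma X_dvd_algEquiv (e : PowerSeries k ≃ₐ[k] PowerSeries k) : X ∣ e X := by
  rw [PowerSeries.X_dvd_iff]
  by_contra h
  have hu : IsUnit (e X) := by
    rw [PowerSeries.isUnit_iff_constantCoeff]; exact isUnit_iff_ne_zero.mpr h
  have hu' := hu.map e.symm
  rw [AlgEquiv.symm_apply_apply] at hu'
  rw [PowerSeries.isUnit_iff_constantCoeff] at hu'
  simp at hu'

lemma dvd_algHom_of_dvd (Θ : PowerSeries k →ₐ[k] PowerSeries k) (h0 : X ∣ Θ X) {n : ℕ}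
    {f : PowerSeries k} (hf : X ^ n ∣ f) : X ^ n ∣ Θ f := by
  obtain ⟨c, rfl⟩ := hf
  rw [map_mul, map_pow]
  exact Dvd.dvd.mul_right (pow_dvd_pow_of_dvd h0 n) _

/-- an endomorphism whose value at `t` is odd up to order `r` commutes with `t ↦ -t` modulo `t^r` -/
theorem comm_mod (Θ : PowerSeries k →ₐ[k] PowerSeries k) (hW : InW r (Θ X)) (h0 : X ∣ Θ X)
    (f : PowerSeries k) : X ^ r ∣ Θ (ng f) - ng (Θ f) := by
  set I : Ideal (PowerSeries k) := Ideal.span {X ^ r} with hI
  set q : PowerSeries k →ₐ[k] (PowerSeries k ⧸ I) := Ideal.Quotient.mkₐ k I with hq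
  set J : Ideal (PowerSeries k ⧸ I) := Ideal.span {q X} with hJ
  have hJr : J ^ r = ⊥ := by
    rw [hJ, Ideal.span_singleton_pow, ← map_pow]
    have : q (X ^ r) = 0 := by
      rw [hq, Ideal.Quotient.mkₐ_eq_mk, Ideal.Quotient.eq_zero_iff_mem]
      exact Ideal.mem_span_singleton_self _
    rw [this]
    exact Ideal.span_singleton_eq_bot.mpr rfl
  have hsep : ⨅ n, J ^ n = ⊥ := eq_bot_iff.mpr (hJr ▸ iInf_le _ r)
  have hFG : q.comp (Θ.comp ng) = q.comp (ng.comp Θ) := by
    apply ext_P J hsep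
    · rw [AlgHom.comp_apply, AlgHom.comp_apply, ng_X, map_neg, map_neg]
      obtain ⟨c, hc⟩ := h0
      rw [hc, map_mul]
      exact J.neg_mem (Ideal.mul_mem_right _ _ (Ideal.mem_span_singleton_self _))
    · rw [AlgHom.comp_apply, AlgHom.comp_apply, AlgHom.comp_apply, AlgHom.comp_apply, ng_X,
        map_neg]
      rw [hq, Ideal.Quotient.mkₐ_eq_mk, Ideal.Quotient.eq, hI, Ideal.mem_span_singleton]
      rw [InW] at hW
      have : -Θ X - ng (Θ X) = -(Θ X + ng (Θ X)) := by ring
      rw [this]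
      exact (dvd_neg).mpr hW
  have h1 := DFunLike.congr_fun hFG f
  rw [AlgHom.comp_apply, AlgHom.comp_apply, AlgHom.comp_apply, AlgHom.comp_apply, hq,
    Ideal.Quotient.mkₐ_eq_mk, Ideal.Quotient.eq, hI, Ideal.mem_span_singleton] at h1
  exact h1

/-- the inverse of an automorphism in the `W`-class is in the `W`-class -/
theorem inW_symm (e : PowerSeries k ≃ₐ[k] PowerSeries k) (hW : InW r (e X)) :
    InW r (e.symm X) := by
  have h0 := X_dvd_algEquiv e
  have h0' := X_dvd_algEquiv e.symm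
  have h1 := comm_mod e.toAlgHom hW h0 (e.symm X)
  have h2 := dvd_algHom_of_dvd e.symm.toAlgHom h0' h1
  change X ^ r ∣ e.symm (e (ng (e.symm X)) - ng (e (e.symm X))) at h2
  rw [map_sub, AlgEquiv.symm_apply_apply, AlgEquiv.apply_symm_apply, ng_X, map_neg] at h2
  rw [InW]
  have : e.symm X + ng (e.symm X) = ng (e.symm X) - -e.symm X := by ring
  rw [this]
  exact h2

end H5ArSing
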