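import Mathlib
import Groth.Agent.Lib.Helper5.ArSing.Cusp.InvClosed
import Groth.Agent.Lib.Helper5.ArSing.NodeInv

set_option autoImplicit false
universe u

namespace H5ArSing

open PowerSeries

theorem main14081 (k : Type u) [Field k] [IsAlgClosed k] (r : ℕ)
    (h2 : (2 : k) ≠ 0) (hev : Even r)
    (σ : ArSing.ring k r ≃ₐ[k] ArSing.ring k r) (hσ : ∀ a, σ (σ a) = a) (hne : σ ≠ AlgEquiv.refl) :
    ∃ φ : ArSing.ring k r ≃ₐ[k] ArSing.ring k r,
      φ.symm (σ (φ (ArSing.x k r))) = ArSing.x k r ∧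
      φ.symm (σ (φ (ArSing.y k r))) = -ArSing.y k r := by
  obtain ⟨m, rfl⟩ : ∃ m, r = 2 * m := by
    obtain ⟨m, hm⟩ := hev
    exact ⟨m, by omega⟩
  obtain ⟨s, hs2, hs3, hs0⟩ := exists_root m σ
  have hsS : HasSubst s := HasSubst.of_constantCoeff_zero' hs0
  set τ₀ : PowerSeries k →ₐ[k] PowerSeries k := substAlgHom hsS with hτ₀
  have hτX : τ₀ X = s := substAlgHom_X hsS
  have hXs : X ∣ s := X_dvd_iff.mpr hs0
  have hτν : τ₀.comp (nu k (2 * m)) = (nu k (2 * m)).comp σ.toAlgHom := by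
    apply ext_A k (2 * m) (Ideal.span {(X : PowerSeries k)}) (sep_P k)
    · rw [AlgHom.comp_apply, nu_x, map_pow, hτX]
      exact Ideal.mem_span_singleton.mpr (dvd_pow hXs two_ne_zero)
    · rw [AlgHom.comp_apply, nu_y, map_pow, hτX]
      exact Ideal.mem_span_singleton.mpr (dvd_pow hXs (Nat.succ_ne_zero _))
    · rw [AlgHom.comp_apply, nu_x, map_pow, hτX, hs2]; rfl
    · rw [AlgHom.comp_apply, nu_y, map_pow, hτX, hs3]; rfl
  have hτν' : ∀ z, τ₀ (nu k (2 * m) z) = nu k (2 * m) (σ z) := fun z => DFunLike.congr_fun hτν z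
  -- `τ₀` is an involution
  have hinvX : τ₀ (τ₀ X) = X := by
    set z := τ₀ (τ₀ X) with hz
    have h1 : z ^ 2 = X ^ 2 := by
      have := hτν' (σ (ArSing.x k (2 * m)))
      rw [hσ, ← hτν', nu_x, map_pow, map_pow] at this
      exact this
    have h3 : z ^ (2 * m + 1) = X ^ (2 * m + 1) := by
      have := hτν' (σ (ArSing.y k (2 * m)))
      rw [hσ, ← hτν', nu_y, map_pow, map_pow] at this
      exact this
    have h4 : (z - X) * (z + X) = 0 := by linear_combination h1
    rcases mul_eq_zero.mp h4 with h | h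
    · exact sub_eq_zero.mp h
    · exfalso
      have hz' : z = -X := eq_neg_of_add_eq_zero_left h
      rw [hz', Odd.neg_pow ⟨m, rfl⟩] at h3
      have h5 : (2 : PowerSeries k) * X ^ (2 * m + 1) = 0 := by linear_combination -h3
      rcases mul_eq_zero.mp h5 with h6 | h6
      · exact two_ne_zero_P h2 h6
      · exact pow_ne_zero _ X_ne_zero h6
  have hττ : ∀ f, τ₀ (τ₀ f) = f := by
    have : τ₀.comp τ₀ = AlgHom.id k (PowerSeries k) := by
      apply ext_P (Ideal.span {(X : PowerSeries k)}) (sep_P k)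
      · rw [AlgHom.comp_apply, hinvX]; exact Ideal.mem_span_singleton_self _
      · rw [AlgHom.comp_apply, hinvX]; rfl
    exact fun f => DFunLike.congr_fun this f
  let τ : PowerSeries k ≃ₐ[k] PowerSeries k := AlgEquiv.ofAlgHom τ₀ τ₀
    (AlgHom.ext hττ) (AlgHom.ext hττ)
  obtain ⟨hξ, φ, hφX, hφ⟩ := H5PSInv.main h2 τ hττ
  have hτX' : τ X = s := hτX
  rw [hτX'] at hξ hφX hφ
  rcases sq_eq_one_cases hξ with h1 | h1
  · -- `ξ = 1`: `σ` is trivial
    exfalso
    apply hne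
    have hτid : ∀ f, τ f = f := by
      intro f
      have := hφ (φ.symm f)
      rw [h1, rescale_one, RingHom.id_apply, AlgEquiv.apply_symm_apply] at this
      have h3 := congrArg φ this
      rwa [AlgEquiv.apply_symm_apply, AlgEquiv.apply_symm_apply] at h3
    ext z
    apply nu_injective m
    rw [← hτν']
    exact hτid _
  · -- `ξ = -1`
    have hsW : InW (2 * m) s := by
      apply inW_of_sq h2
      · rw [← pow_two, hs2]; exact inS_nu m _
      · rw [h1]; simp
    have hwW : InW (2 * m) (φ.toAlgHom X) := by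
      change InW (2 * m) (φ X)
      rw [hφX]
      exact inW_C_mul _ (inW_add inW_X (inW_C_mul _ hsW))
    have hw0 : X ∣ φ.toAlgHom X := X_dvd_algEquiv φ
    have hw'W : InW (2 * m) (φ.symm.toAlgHom X) := inW_symm φ hwW
    have hw'0 : X ∣ φ.symm.toAlgHom X := X_dvd_algEquiv φ.symm
    let ψ₁ := homOfW h2 m φ.toAlgHom hwW hw0
    let ψ₂ := homOfW h2 m φ.symm.toAlgHom hw'W hw'0
    have hψ₁ : ∀ z, nu k (2 * m) (ψ₁ z) = φ (nu k (2 * m) z) := nu_homOfW h2 m _ hwW hw0
    have hψ₂ : ∀ z, nu k (2 * m) (ψ₂ z) = φ.symm (nu k (2 * m) z) := nu_homOfW h2 m _ hw'W hw'0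
    let ψ : ArSing.ring k (2 * m) ≃ₐ[k] ArSing.ring k (2 * m) := AlgEquiv.ofAlgHom ψ₁ ψ₂
      (by
        ext z
        apply nu_injective m
        rw [AlgHom.comp_apply, hψ₁, hψ₂, AlgEquiv.apply_symm_apply]; rfl)
      (by
        ext z
        apply nu_injective m
        rw [AlgHom.comp_apply, hψ₂, hψ₁, AlgEquiv.symm_apply_apply]; rfl)
    have hconj : ∀ z, nu k (2 * m) (ψ.symm (σ (ψ z))) = rescale (-1 : k) (nu k (2 * m) z) := by
      intro z
      change nu k (2 * m) (ψ₂ (σ (ψ₁ z))) = _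
      rw [hψ₂, ← hτν', hψ₁, ← h1]
      exact hφ _
    refine ⟨ψ, ?_, ?_⟩
    · apply nu_injective m
      rw [hconj, nu_x, map_pow, rescale_X]
      simp
    · apply nu_injective m
      rw [hconj, nu_y, map_pow, rescale_X, map_neg (nu k (2 * m)), nu_y]
      have hC : (C (-1 : k) : PowerSeries k) = -1 := by simp
      rw [hC, neg_one_mul, Odd.neg_pow ⟨m, rfl⟩]

end H5ArSing
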